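import Cfsg.Agent.S4528
import Cfsg.Agent.S4529
import Cfsg.Agent.S4652
import Cfsg.Agent.S4736
import Cfsg.Agent.H649.Transport
import Cfsg.Agent.H611.CoverPrincipal
import Cfsg.Agent.H112.HT.Ind
import Cfsg.Agent.H316.HT.Defs

/-!
# S4933, Lemma D (helper718)

`2`-blocks with dihedral or semidihedral defect groups have an ODD number `2 ^ (n - 2) - 1` of characters of
height one (S4528, S4529).  So a `2`-group of automorphisms fixes one of them.
-/

set_option autoImplicit false

open Subgroup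

namespace Cfsg.Agent.H718.HT

open Cfsg Cfsg.Agent.Characters.Core Cfsg.Agent.Blocks Cfsg.Agent.H316.HT

universe u v

/-- the characters of height one in the principal `2`-block -/
def One (M : Ideal AlgInt) (K : Type u) [Group K] : Type u :=
  {χ : IrrCharacter K // χ ∈ principalBlock M K ∧ vd 2 (χ : K → ℂ) = 1}

/-- the number of characters of height one in the principal `2`-block is odd -/
def OddOne (K : Type u) [Group K] : Prop := ∀ M : Ideal AlgInt, IsPModular 2 M → Odd (Nat.card (One M K))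

theorem height_eq {K : Type u} [Group K] [Finite K] {M : Ideal AlgInt} (hM : IsPModular 2 M)
    (χ : IrrCharacter K) : blockHeight 2 (principalBlock M K) (χ : K → ℂ) = vd 2 (χ : K → ℂ) := by
  have := Cfsg.Agent.Blocks.Local.isPrime_of_isPModular hM
  exact S4736.blockHeight_principal 2 M χ

theorem oddOne_of_dihedral {K : Type u} [Group K] [Finite K] (P : Sylow 2 K) (n : ℕ) (hn : 3 ≤ n)
    (e : Nonempty ((P : Subgroup K) ≃* DihedralGroup (2 ^ (n - 1)))) : OddOne K := by
  classical
  intro M hM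
  have hf := finite_irr (G := K)
  have hP := Cfsg.Agent.Blocks.Local.isPrime_of_isPModular hM
  have := Fact.mk Nat.prime_two
  have := Fintype.ofFinite K
  have hBD : IsDefectGroup 2 M (principalBlock M K) (P : Subgroup K) := (S4652.result 2 M hM _).2 ⟨P, rfl⟩
  obtain ⟨h1, -, -, h4, h5⟩ := S4528.result M hM _
    Blocks.PrincipalSection.isPBlock_principalBlock _ hBD n hn e
  let A0 := {χ : IrrCharacter K // χ ∈ principalBlock M K ∧
    blockHeight 2 (principalBlock M K) (χ : K → ℂ) = 0}
  have e1 : (principalBlock M K) ≃ A0 ⊕ One M K :=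
    { toFun := fun χ => if h : vd 2 (χ.1 : K → ℂ) = 0 then Sum.inl ⟨χ.1, χ.2, by rw [height_eq hM]; exact h⟩
        else Sum.inr ⟨χ.1, χ.2, by
          have := h5 χ.1 χ.2
          rw [height_eq hM] at this
          omega⟩
      invFun := fun s => match s with
        | Sum.inl a => ⟨a.1, a.2.1⟩
        | Sum.inr b => ⟨b.1, b.2.1⟩
      left_inv := by
        rintro ⟨χ, hχ⟩
        by_cases h : vd 2 (χ : K → ℂ) = 0
        · simp [h]
        · simp [h]
      right_inv := by
        rintro (⟨a, ha, ha0⟩ | ⟨b, hb, hb1⟩)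
        · rw [height_eq hM] at ha0
          simp [ha0]
        · simp [hb1] }
  have h6 := Nat.card_congr e1
  have : Finite A0 := Subtype.finite
  have : Finite (One M K) := Subtype.finite
  rw [Nat.card_sum] at h6
  have h7 : Nat.card A0 = 4 := h4
  obtain ⟨k, rfl⟩ : ∃ k, n = k + 3 := ⟨n - 3, by omega⟩
  have h8 : (2 : ℕ) ^ (k + 3 - 2) = 2 * 2 ^ k := by
    rw [show k + 3 - 2 = k + 1 by omega, pow_succ]; ring
  have h9 : Nat.card (principalBlock M K) = 2 * 2 ^ k + 3 := by rw [← h8]; exact h1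
  have h10 : 0 < 2 ^ k := by positivity
  rw [Nat.odd_iff]
  omega

theorem oddOne_of_quasi {K : Type u} [Group K] [Finite K] (P : Sylow 2 K)
    (e : IsQuasiDihedral (P : Subgroup K)) : OddOne K := by
  classical
  intro M hM
  have := Fact.mk Nat.prime_two
  have := Fintype.ofFinite K
  have hBD : IsDefectGroup 2 M (principalBlock M K) (P : Subgroup K) := (S4652.result 2 M hM _).2 ⟨P, rfl⟩
  have he := e
  obtain ⟨n, hn, hc, -⟩ := e
  obtain ⟨-, -, -, -, -, -, h7, -⟩ := S4529.result M hM _
    Blocks.PrincipalSection.isPBlock_principalBlock _ hBD (n + 1) (by omega) hc he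
  have h8 : Nat.card (One M K) = 2 ^ (n + 1 - 2) - 1 := by
    rw [← h7]
    refine Nat.card_congr (Equiv.subtypeEquivRight fun χ => ?_)
    rw [height_eq hM]
  obtain ⟨k, rfl⟩ : ∃ k, n = k + 3 := ⟨n - 3, by omega⟩
  have h9 : (2 : ℕ) ^ (k + 3 + 1 - 2) = 2 * (2 * 2 ^ k) := by
    rw [show k + 3 + 1 - 2 = k + 2 by omega, pow_succ, pow_succ]; ring
  rw [h8, h9, Nat.odd_iff]
  have h10 : 0 < 2 ^ k := by positivity
  omega

theorem OddOne.congr {K : Type u} {L : Type v} [Group K] [Group L] (e : K ≃* L) (h : OddOne K) :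
    OddOne L := by
  intro M hM
  have h1 : Nat.card (One M K) = Nat.card (One M L) := by
    refine Nat.card_congr (Equiv.subtypeEquiv (H649.irrEquiv e) fun χ => ?_)
    rw [H649.irrEquiv_apply, vd, vd, H649.charDegree_irrMap]
    have h2 : H649.irrMap e χ ∈ principalBlock M L ↔ χ ∈ principalBlock M K := by
      rw [← H649.blkMap_principalBlock e]
      exact H649.irrMap_mem_blkMap
    rw [h2]
  rw [← h1]
  exact h M hM

/-- conjugation of the characters of height one -/
noncomputable def act {G : Type u} [Group G] (N : Subgroup G) [N.Normal] (M : Ideal AlgInt) (g : G) (x : One M N) :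
    One M N :=
  ⟨Covering.conjIrr N g⁻¹ x.1, H611.CoverPrincipal.conjIrr_mem_principalBlock N g⁻¹ x.2.1, by
    have h := x.2.2
    unfold vd charDegree at h ⊢
    rw [Covering.conjIrr_at_one]
    exact h⟩

noncomputable instance {G : Type u} [Group G] (N : Subgroup G) [N.Normal] (M : Ideal AlgInt) : MulAction G (One M N) where
  smul := act N M
  one_smul x := by
    apply Subtype.ext
    show Covering.conjIrr N (1 : G)⁻¹ x.1 = x.1
    rw [inv_one, Covering.conjIrr_one]
  mul_smul g h x := by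
    apply Subtype.ext
    show Covering.conjIrr N (g * h)⁻¹ x.1 = Covering.conjIrr N g⁻¹ (Covering.conjIrr N h⁻¹ x.1)
    rw [Covering.conjIrr_conjIrr, mul_inv_rev]

theorem smul_def {G : Type u} [Group G] (N : Subgroup G) [N.Normal] (M : Ideal AlgInt) (g : G) (x : One M N) :
    (g • x).1 = Covering.conjIrr N g⁻¹ x.1 := rfl

/-- `N` acts trivially -/
theorem smul_of_mem {G : Type u} [Group G] (N : Subgroup G) [N.Normal] (M : Ideal AlgInt) {g : G} (hg : g ∈ N)
    (x : One M N) : g • x = x := by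
  apply Subtype.ext
  apply Subtype.ext
  funext n
  rw [smul_def, Covering.conjIrr_apply]
  have h1 : (MulAut.conjNormal g⁻¹ n : N) = (⟨g, hg⟩ : N)⁻¹ * n * ⟨g, hg⟩ := by
    apply Subtype.ext
    rw [MulAut.conjNormal_apply]
    simp
  rw [h1]
  have h2 := isIrr_isClassFunction x.1.2
  have h3 := h2 n (⟨g, hg⟩ : N)⁻¹
  simpa using h3

/-- **Lemma D**: `K ⊲ G` with `G / K` a cyclic `2`-group and `K` with an odd number of characters of height one
in the principal `2`-block (dihedral or semidihedral Sylow `2`-subgroups). -/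
theorem lemD {G : Type u} [Group G] [Finite G] {M : Ideal AlgInt} (hM : IsPModular 2 M) (K : Subgroup G) [K.Normal]
    (hcyc : IsCyclic (G ⧸ K)) (h2 : ∃ j : ℕ, K.index = 2 ^ j) (hodd : OddOne K) :
    ∃ (χ : IrrCharacter G) (ψ : IrrCharacter K), χ ∈ principalBlock M G ∧ ψ ∈ principalBlock M K ∧
      (∀ t : K, (χ : G → ℂ) t = (ψ : K → ℂ) t) ∧ vd 2 (χ : G → ℂ) = 1 ∧ vd 2 (ψ : K → ℂ) = 1 := by
  classical
  have := Fact.mk Nat.prime_two
  have hf := finite_irr (G := K)
  have : Finite (One M K) := Subtype.finite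
  obtain ⟨P⟩ : Nonempty (Sylow 2 G) := inferInstance
  obtain ⟨x, hx⟩ := P.2.nonempty_fixed_point_of_prime_not_dvd_card (One M K)
    (fun h => by
      have h1 := hodd M hM
      rw [Nat.odd_iff] at h1
      omega)
  -- `G = K P`
  have hKP : K ⊔ (P : Subgroup G) = ⊤ := by
    rw [← Subgroup.index_eq_one]
    obtain ⟨j, hj⟩ := h2
    have h3 : (K ⊔ (P : Subgroup G)).index ∣ 2 ^ j := by
      rw [← hj]
      exact Subgroup.index_dvd_of_le le_sup_left
    have h4 : (K ⊔ (P : Subgroup G)).index ∣ (P : Subgroup G).index := Subgroup.index_dvd_of_le le_sup_right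
    have h5 : Nat.Coprime (2 ^ j) (P : Subgroup G).index :=
      Nat.Coprime.pow_left _ ((Nat.Prime.coprime_iff_not_dvd Nat.prime_two).2 P.not_dvd_index)
    exact Nat.eq_one_of_dvd_coprimes h5 h3 h4
  have hall : ∀ g : G, g • x = x := by
    intro g
    have hg : g ∈ K ⊔ (P : Subgroup G) := by rw [hKP]; exact Subgroup.mem_top g
    rw [Subgroup.mem_sup_of_normal_left] at hg
    obtain ⟨k, hk, y, hy, rfl⟩ := hg
    rw [mul_smul]
    have h6 : (⟨y, hy⟩ : (P : Subgroup G)) • x = x := hx ⟨y, hy⟩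
    have h7 : y • x = x := h6
    rw [h7, smul_of_mem K M hk]
  obtain ⟨χ, hχ, hχψ, hd⟩ := H112.HT.lift_mem hM K hcyc x.1 x.2.1 (fun g t => by
    have h8 := congrArg (fun z : One M K => ((z.1 : IrrCharacter K) : K → ℂ) t) (hall g⁻¹)
    change ((g⁻¹ • x).1 : K → ℂ) t = (x.1 : K → ℂ) t at h8
    rw [smul_def, Covering.conjIrr_apply, inv_inv] at h8
    exact h8)
  refine ⟨χ, x.1, hχ, x.2.1, hχψ, ?_, x.2.2⟩
  unfold vd
  rw [hd]
  exact x.2.2

end Cfsg.Agent.H718.HT
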