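import Cfsg.Agent.H718.HT.LemD
import Cfsg.Agent.H718.HT.Dih
import Cfsg.Agent.H112.HT.Glue
import Cfsg.Agent.H36.EPL.Bound
import Cfsg.Agent.H991.QuatQuot
import Cfsg.Agent.H686.CharKit
import Cfsg.Agent.S0898
import Cfsg.Agent.Lib.FieldAutCard
import Cfsg.Agent.TwoFusion.SLTwoFacts

/-!
# S4933, the row `PSL₂(q)`, `q` odd, `p = 2` (helper718)
-/

set_option autoImplicit false

open Subgroup

namespace Cfsg.Agent.H718.HT

open Cfsg Cfsg.Agent.H316.HT Matrix Cfsg.Agent.Schreier.ClassPSL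
open Cfsg.Agent.ClassicalGeometry.AutPSL.Root Cfsg.Agent.ClassicalGeometry.AutPSL.Auto

universe u

/-- an irreducible character trivial on a normal subgroup with abelian quotient is linear -/
theorem charDegree_of_trivial {G : Type u} [Group G] [Finite G] {N : Subgroup G} [N.Normal]
    (hab : ∀ a b : G, a * b * a⁻¹ * b⁻¹ ∈ N) (χ : IrrCharacter G)
    (h : ∀ n ∈ N, (χ : G → ℂ) n = (χ : G → ℂ) 1) : charDegree (χ : G → ℂ) = 1 := by
  obtain ⟨ψ, rfl⟩ := H686.CharKit.exists_infl N χ h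
  have h2 := Cfsg.Agent.S0898.irr_one_of_comm (fun a b : G ⧸ N => by
    obtain ⟨x, rfl⟩ := QuotientGroup.mk_surjective a
    obtain ⟨y, rfl⟩ := QuotientGroup.mk_surjective b
    rw [← QuotientGroup.mk_mul, ← QuotientGroup.mk_mul, QuotientGroup.eq]
    have h3 := hab y⁻¹ x⁻¹
    simpa [mul_assoc] using h3) ψ.2
  rw [H686.CharKit.charDegree_eq_one_iff, H686.CharKit.infl_apply]
  exact h2

/-- **Lemma D in an almost simple group**: `K ⊲ A` with `A / K` a cyclic 2-group, `N ≤ K`, `K / N` abelian -/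
theorem goodOn_of_oddOne {A : Type u} [Group A] [Finite A] (N K : Subgroup A) [N.Normal] [K.Normal]
    (hab : ∀ a ∈ K, ∀ b ∈ K, a * b * a⁻¹ * b⁻¹ ∈ N) (hcyc : IsCyclic (A ⧸ K)) (h2 : ∃ j : ℕ, K.index = 2 ^ j)
    (hodd : OddOne K) {M : Ideal AlgInt} (hM : IsPModular 2 M) {a : ℕ} (ha : 0 < a) : GoodOn 2 a M N := by
  obtain ⟨χ, ψ, hχ, -, hres, hv, hv'⟩ := lemD hM K hcyc h2 hodd
  refine ⟨χ, hχ, ?_, by rw [hv]; exact one_pos, by rw [hv]; exact ha⟩
  by_contra hcon
  push Not at hcon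
  have h1 : charDegree (ψ : K → ℂ) = 1 := by
    apply charDegree_of_trivial (N := N.subgroupOf K)
    · rintro ⟨x, hx⟩ ⟨y, hy⟩
      exact hab x hx y hy
    · intro t ht
      rw [Subgroup.mem_subgroupOf] at ht
      have h3 := hcon t ht
      have h4 := hres 1
      rw [Subgroup.coe_one] at h4
      rw [hres t, h4] at h3
      exact h3
  unfold vd at hv'
  rw [h1] at hv'
  simp at hv'

theorem act_injective {A : Type u} [Group A] (N : Subgroup A) [hN : N.Normal] {S : Type*} [Group S] (e : N ≃* S)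
    (hC : centralizer (N : Set A) = ⊥) : Function.Injective (H112.HT.act N e) := by
  rw [injective_iff_map_eq_one]
  intro x hx
  have h1 : x ∈ centralizer (N : Set A) := by
    rw [mem_centralizer_iff]
    intro m hm
    have h3 := congrArg (fun f : MulAut S => ((e.symm (f (e ⟨m, hm⟩)) : N) : A)) hx
    simp only [H112.HT.act_apply, MulEquiv.symm_apply_apply, MulAut.one_apply] at h3
    rw [mul_inv_eq_iff_eq_mul] at h3
    exact h3.symm
  rw [hC, mem_bot] at h1
  exact h1

/-- an abelian Sylow subgroup excludes `CD` -/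
theorem not_CD_of_comm {p a : ℕ} (hp : 1 < p) (ha : 0 < a) {P : Type u} [Group P] [Finite P]
    (hc : ∀ x y : P, x * y = y * x) (h : CD p a P) : False := by
  obtain ⟨φ, hφ⟩ := h.2
  have h2 := Cfsg.Agent.S0898.irr_one_of_comm hc φ.2
  rw [← H686.CharKit.charDegree_eq_one_iff, hφ] at h2
  have h3 := Nat.one_lt_pow ha.ne' hp
  omega

/-- `8 ∣ |PSL₂(q)|` if `q` is an odd square -/
theorem eight_dvd (F : Type) [Field F] [Fintype F] {r : ℕ} (hr : Fintype.card F = r ^ 2) (hodd : Odd r) :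
    8 ∣ Nat.card (Matrix.ProjectiveSpecialLinearGroup (Fin 2) F) := by
  have h0 := Cfsg.Agent.ClassicalGeometry.PSL2Basic.card_PSL2_odd (F := F) (by rw [hr]; exact hodd.pow)
  have h1 : 2 * Nat.card (H937.PSL F) + r ^ 2 = (r ^ 2) ^ 3 := by
    rw [hr] at h0
    have h01 : 1 ≤ (r ^ 2) ^ 2 := Nat.one_le_pow _ _ (Nat.pow_pos hodd.pos)
    calc 2 * Nat.card (H937.PSL F) + r ^ 2
        = Nat.card (ProjectiveSpecialLinearGroup (Fin 2) F) * 2 + r ^ 2 := by rw [mul_comm]
      _ = r ^ 2 * ((r ^ 2) ^ 2 - 1) + r ^ 2 := by rw [h0]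
      _ = r ^ 2 * ((r ^ 2) ^ 2 - 1 + 1) := by ring
      _ = r ^ 2 * (r ^ 2) ^ 2 := by rw [Nat.sub_add_cancel h01]
      _ = (r ^ 2) ^ 3 := by ring
  have h2 : (2 * Nat.card (H937.PSL F) + r ^ 2) % 16 = ((r ^ 2) ^ 3) % 16 := by rw [h1]
  have h3 : r % 16 = 1 ∨ r % 16 = 3 ∨ r % 16 = 5 ∨ r % 16 = 7 ∨ r % 16 = 9 ∨ r % 16 = 11 ∨ r % 16 = 13 ∨
      r % 16 = 15 := by
    obtain ⟨k, rfl⟩ := hodd
    omega
  have h4 : r ^ 2 % 16 = 1 ∨ r ^ 2 % 16 = 9 := by
    rcases h3 with h | h | h | h | h | h | h | h <;> simp [Nat.pow_mod, h]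
  have h5 : (r ^ 2) ^ 3 % 16 = r ^ 2 % 16 := by
    rcases h4 with h | h <;> rw [Nat.pow_mod, h]
  rw [h5] at h2
  show 8 ∣ Nat.card (H937.PSL F)
  omega

theorem not_comm_psl {F : Type*} [Field F] [Fintype F] (h3 : 3 < Fintype.card F) :
    ¬ IsMulCommutative (Matrix.ProjectiveSpecialLinearGroup (Fin 2) F) := by
  intro h
  have h1 := TwoFusion.SLTwoFacts.commutator_eq_top h3
  have h2 := Subgroup.map_commutator (⊤ : Subgroup (Matrix.SpecialLinearGroup (Fin 2) F)) ⊤
    (QuotientGroup.mk' (center (Matrix.SpecialLinearGroup (Fin 2) F)))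
  have h4 : ⁅(⊤ : Subgroup (Matrix.SpecialLinearGroup (Fin 2) F)), ⊤⁆ = ⊤ := h1
  have h6 : (⊤ : Subgroup (Matrix.SpecialLinearGroup (Fin 2) F)).map
      (QuotientGroup.mk' (center (Matrix.SpecialLinearGroup (Fin 2) F))) = ⊤ :=
    Subgroup.map_top_of_surjective _ (QuotientGroup.mk'_surjective _)
  rw [h4, h6] at h2
  have h5 : ⁅(⊤ : Subgroup (Matrix.SpecialLinearGroup (Fin 2) F ⧸ center (Matrix.SpecialLinearGroup (Fin 2) F))),
      (⊤ : Subgroup (Matrix.SpecialLinearGroup (Fin 2) F ⧸ center (Matrix.SpecialLinearGroup (Fin 2) F)))⁆ = ⊥ := by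
    rw [commutator_eq_bot_iff_le_centralizer]
    intro x _
    rw [mem_centralizer_iff]
    intro y _
    exact h.is_comm.comm y x
  rw [h5] at h2
  have := TwoFusion.SLTwoFacts.isSimpleGroup_psl h3
  exact bot_ne_top (α := Subgroup (Matrix.ProjectiveSpecialLinearGroup (Fin 2) F)) h2.symm

/-- **the row `PSL₂(q)`, `q` odd, `p = 2`** -/
theorem row_psl2 (F : Type) [Field F] [Fintype F] [IsSimpleGroup (Matrix.ProjectiveSpecialLinearGroup (Fin 2) F)]
    (hodd : Odd (Fintype.card F)) (h4 : 4 ≤ Fintype.card F) :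
    Row 2 (Matrix.ProjectiveSpecialLinearGroup (Fin 2) F) := by
  classical
  intro A _ _ N _ e hC M hM P a ha hCD
  obtain ⟨e⟩ := e
  have h2 : Fact (Nat.Prime 2) := ⟨Nat.prime_two⟩
  obtain ⟨p, hp⟩ := CharP.exists F
  have hpf : Fact p.Prime := ⟨CharP.char_is_prime F p⟩
  obtain ⟨f, -, hF⟩ := FiniteField.card F p
  obtain ⟨γ, hγ⟩ := H688.TransAut.exists_gal (F := F)
  have hcyc : IsCyclic (F ≃+* F) := LieRecognition.FieldSemilinear.isCyclic_ringAut F
  have hcard := Cfsg.Agent.Lib.FieldAutCard.card_ringAut (F := F) (p := p) (f := f) f.2 hF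
  let z : Multiplicative (ZMod (Nat.card (F ≃+* F))) ≃* (F ≃+* F) := zmodCyclicMulEquiv hcyc
  have hn0 : Nat.card (F ≃+* F) ≠ 0 := by rw [hcard]; exact f.ne_zero
  have hnz : NeZero (Nat.card (F ≃+* F)) := ⟨hn0⟩
  have hcC : Nat.card (Multiplicative (ZMod (Nat.card (F ≃+* F)))) = Nat.card (F ≃+* F) := Nat.card_congr z.toEquiv
  set n := Nat.card (F ≃+* F) with hn
  set m : ℕ := ordCompl[2] n with hm
  have hmn : 2 ^ n.factorization 2 * m = n := Nat.ordProj_mul_ordCompl_eq_self _ _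
  have hm2 : ¬ 2 ∣ m := Nat.not_dvd_ordCompl Nat.prime_two hn0
  let g : A →* Multiplicative (ZMod n) := z.symm.toMonoidHom.comp (γ.comp (H112.HT.act N e))
  set h : A →* Multiplicative (ZMod n) := (powMonoidHom m).comp g with hh
  have happ : ∀ x, h x = g x ^ m := fun x => rfl
  have hinj := act_injective N e hC
  -- commutators
  have hab : ∀ x y : A, x * y * x⁻¹ * y⁻¹ ∈ N := by
    intro x y
    rw [← H112.HT.ker_toOut N e hC, MonoidHom.mem_ker, map_mul, map_mul, map_mul, map_inv, map_inv,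
      H36.EPL.out_comm h4 (H112.HT.toOut N e x), mul_inv_cancel_right, mul_inv_cancel]
  have hcycK : IsCyclic (A ⧸ h.ker) := by
    have := Subgroup.isCyclic h.range
    exact isCyclic_of_surjective (QuotientGroup.quotientKerEquivRange h).symm
      (QuotientGroup.quotientKerEquivRange h).symm.surjective
  have hidx : ∃ j : ℕ, h.ker.index = 2 ^ j := by
    rw [Subgroup.index_ker]
    have h1 : IsPGroup 2 h.range := by
      rintro ⟨y, x, rfl⟩
      refine ⟨n.factorization 2, ?_⟩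
      apply Subtype.ext
      show (h x) ^ 2 ^ _ = 1
      rw [happ, ← pow_mul, mul_comm, hmn]
      exact orderOf_dvd_iff_pow_eq_one.1 ((orderOf_dvd_natCard (g x)).trans (dvd_of_eq hcC))
    exact IsPGroup.iff_card.1 h1
  -- the 2-elements of `K` are inner-diagonal
  have hdiag : ∀ x ∈ h.ker, (∃ j : ℕ, x ^ 2 ^ j = 1) → ∃ B : GL (Fin 2) F, H112.HT.act N e x = lift (cj B) := by
    rintro x hx ⟨j, hj⟩
    rw [MonoidHom.mem_ker, happ] at hx
    have h5 : g x ^ 2 ^ j = 1 := by rw [← map_pow, hj, map_one]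
    have h6 : orderOf (g x) ∣ m := orderOf_dvd_of_pow_eq_one hx
    have h7 : orderOf (g x) ∣ 2 ^ j := orderOf_dvd_of_pow_eq_one h5
    have h8 : g x = 1 := orderOf_eq_one_iff.1 (Nat.eq_one_of_dvd_coprimes
      (Nat.Coprime.pow_right _ ((Nat.Prime.coprime_iff_not_dvd Nat.prime_two).2 hm2).symm) h6 h7)
    apply hγ
    have h9 : z.symm (γ (H112.HT.act N e x)) = 1 := h8
    exact z.symm.injective (by rw [h9, map_one])
  obtain ⟨T⟩ : Nonempty (Sylow 2 h.ker) := inferInstance
  by_cases hT : IsMulCommutative (T : Subgroup h.ker)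
  · exfalso
    -- `N ≤ K`
    have hSna : ∃ x y : Matrix.ProjectiveSpecialLinearGroup (Fin 2) F, x * y ≠ y * x := by
      by_contra hcon
      push Not at hcon
      exact not_comm_psl (F := F) (by omega) ⟨⟨hcon⟩⟩
    have hNK : N ≤ h.ker := by
      rcases (h.comp (N.subtype.comp e.symm.toMonoidHom)).normal_ker.eq_bot_or_eq_top with h5 | h5
      · exfalso
        obtain ⟨x, y, hxy⟩ := hSna
        apply hxy
        have h6 := (MonoidHom.ker_eq_bot_iff _).1 h5
        apply h6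
        rw [map_mul, map_mul, mul_comm]
      · intro x hx
        have h6 : e ⟨x, hx⟩ ∈ (h.comp (N.subtype.comp e.symm.toMonoidHom)).ker := by rw [h5]; exact mem_top _
        rw [MonoidHom.mem_ker] at h6
        rw [MonoidHom.mem_ker]
        simpa using h6
    obtain ⟨T1⟩ : Nonempty (Sylow 2 (Matrix.ProjectiveSpecialLinearGroup (Fin 2) F)) := inferInstance
    obtain ⟨k, hk, ⟨e3⟩⟩ := H991.psl2_dihedral hodd T1
    let v : Matrix.ProjectiveSpecialLinearGroup (Fin 2) F →* h.ker := (Subgroup.inclusion hNK).comp e.symm.toMonoidHom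
    have hv : Function.Injective v := (Subgroup.inclusion_injective hNK).comp e.symm.injective
    obtain ⟨T2, hT2⟩ := (T1.2.map v).exists_le_sylow
    have hcT : ∀ X : Sylow 2 h.ker, ∀ x ∈ (X : Subgroup h.ker), ∀ y ∈ (X : Subgroup h.ker), x * y = y * x := by
      intro X x hx y hy
      have e4 := Sylow.equiv X T
      have h5 : (⟨x, hx⟩ : (X : Subgroup h.ker)) * ⟨y, hy⟩ = ⟨y, hy⟩ * ⟨x, hx⟩ := by
        apply e4.injective
        rw [map_mul, map_mul]
        exact hT.is_comm.comm _ _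
      exact congrArg Subtype.val h5
    have hc1 : ∀ x y : (T1 : Subgroup (Matrix.ProjectiveSpecialLinearGroup (Fin 2) F)), x * y = y * x := by
      intro x y
      apply Subtype.ext
      apply hv
      rw [Subgroup.coe_mul, Subgroup.coe_mul, map_mul, map_mul]
      exact hcT T2 _ (hT2 ⟨x, x.2, rfl⟩) _ (hT2 ⟨y, y.2, rfl⟩)
    have hk1 : k = 1 := by
      by_contra hk1
      have h5 : DihedralGroup.r (1 : ZMod (2 ^ k)) * DihedralGroup.sr 0 = DihedralGroup.sr 0 * DihedralGroup.r 1 := by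
        apply e3.symm.injective
        rw [map_mul, map_mul]
        exact hc1 _ _
      rw [DihedralGroup.r_mul_sr, DihedralGroup.sr_mul_r] at h5
      have h6 : (0 : ZMod (2 ^ k)) - 1 = 0 + 1 := by injection h5
      have h7 : ((2 : ℕ) : ZMod (2 ^ k)) = 0 := by
        have : (2 : ZMod (2 ^ k)) = 1 + 1 := by norm_num
        push_cast
        rw [this]
        linear_combination -h6
      rw [ZMod.natCast_eq_zero_iff] at h7
      have h8 := Nat.le_of_dvd (by norm_num) h7
      have h9 : 2 ^ 2 ≤ 2 ^ k := Nat.pow_le_pow_right (by norm_num) (by omega)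
      omega
    have hcardT1 : Nat.card (T1 : Subgroup (Matrix.ProjectiveSpecialLinearGroup (Fin 2) F)) = 4 := by
      rw [Nat.card_congr e3.toEquiv, hk1, DihedralGroup.nat_card]
      norm_num
    have h8 : ¬ 8 ∣ Nat.card (Matrix.ProjectiveSpecialLinearGroup (Fin 2) F) := by
      intro hd
      have h9 := T1.pow_dvd_card_of_pow_dvd_card (n := 3) (by simpa using hd)
      rw [hcardT1] at h9
      revert h9
      norm_num
    have hpodd : Odd p := by
      rw [hF] at hodd
      exact Nat.Odd.of_mul_left (m := p) (n := p ^ ((f : ℕ) - 1)) (by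
        rw [← pow_succ', Nat.sub_add_cancel f.pos]; exact hodd)
    have hfodd : ¬ 2 ∣ n := by
      intro hd
      rw [hcard] at hd
      obtain ⟨j, hj⟩ := hd
      exact h8 (eight_dvd F (r := p ^ j) (by rw [hF, hj, ← pow_mul, mul_comm]) hpodd.pow)
    have hmn' : m = n := by
      have h9 := Nat.factorization_eq_zero_of_not_dvd hfodd
      rw [h9, pow_zero, one_mul] at hmn
      exact hmn
    have hK : ∀ x : A, x ∈ h.ker := by
      intro x
      rw [MonoidHom.mem_ker, happ, hmn']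
      exact orderOf_dvd_iff_pow_eq_one.1 ((orderOf_dvd_natCard (g x)).trans (dvd_of_eq hcC))
    have hPK : (P : Subgroup A) ≤ h.ker := fun x _ => hK x
    refine not_CD_of_comm (by norm_num) ha (fun x y => ?_) hCD
    have h10 := hcT (P.subtype hPK) ⟨x, hK x⟩ (by
      show (⟨x, hK x⟩ : h.ker) ∈ (P : Subgroup A).subgroupOf h.ker
      exact x.2) ⟨y, hK y⟩ (by
      show (⟨y, hK y⟩ : h.ker) ∈ (P : Subgroup A).subgroupOf h.ker
      exact y.2)
    exact Subtype.ext (congrArg (fun w : h.ker => (w : A)) h10)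
  · apply goodOn_of_oddOne N h.ker (fun x _ y _ => hab x y) hcycK hidx ?_ hM ha
    let u : h.ker →* MulAut (Matrix.ProjectiveSpecialLinearGroup (Fin 2) F) := (H112.HT.act N e).comp h.ker.subtype
    have hu : Function.Injective u := hinj.comp h.ker.subtype_injective
    have e1 : (T : Subgroup h.ker) ≃* (T : Subgroup h.ker).map u := (T : Subgroup h.ker).equivMapOfInjective u hu
    obtain ⟨k, hk, ⟨e2⟩⟩ := dihedral_inndiag hodd ((T : Subgroup h.ker).map u) (T.2.map u) (by
      rintro _ ⟨x, hx, rfl⟩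
      refine hdiag x x.2 ?_
      obtain ⟨j, hj⟩ := T.2 ⟨x, hx⟩
      exact ⟨j, congrArg (fun y : (T : Subgroup h.ker) => ((y : h.ker) : A)) hj⟩) (fun hc => hT (by
        refine ⟨⟨fun x y => e1.injective ?_⟩⟩
        rw [map_mul, map_mul]
        exact hc.is_comm.comm _ _))
    exact oddOne_of_dihedral T k hk ⟨e1.trans e2⟩

end Cfsg.Agent.H718.HT
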